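import Groth.Agent.TorusLift28.Points
import Mathlib.FieldTheory.Finite.Extension
import Mathlib.FieldTheory.Galois.Basic
import Mathlib.RingTheory.Ideal.GoingUp
import Mathlib.RingTheory.Flat.Basic
import Mathlib.LinearAlgebra.TensorProduct.Basis

/-!
# Norms of points of a commutative affine group along extensions of finite fields
-/

set_option linter.style.haveILetI false
set_option backward.isDefEq.respectTransparency false

universe u

open CategoryTheory CategoryTheory.Limits AlgebraicGeometry MonoidalCategory CartesianMonoidalCategory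
open scoped MonObj TensorProduct
open Groth.Agent.GrpSchLib Groth.Agent.GrpSchLib.AffineHopf

namespace Groth.Agent.TorusLift28

variable {k : Type u} [Field k]

/-- The tensor product of finite extensions of coprime degrees is a field. -/
theorem isMaximal_bot_tensor (F κ : Type u) [Field F] [Field κ] [Algebra k F] [Algebra k κ] [FiniteDimensional k F]
    [FiniteDimensional k κ] (h : (Module.finrank k F).Coprime (Module.finrank k κ)) :
    IsField (F ⊗[k] κ) := by
  haveI : Nontrivial (F ⊗[k] κ) :=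
    Algebra.TensorProduct.nontrivial_of_algebraMap_injective_of_flat_left k F κ (algebraMap k κ).injective
  obtain ⟨M, hM⟩ := Ideal.exists_maximal (F ⊗[k] κ)
  letI : Field ((F ⊗[k] κ) ⧸ M) := Ideal.Quotient.field M
  let q : F ⊗[k] κ →ₐ[k] (F ⊗[k] κ) ⧸ M := Ideal.Quotient.mkₐ k M
  let i₂ := q.comp Algebra.TensorProduct.includeRight
  have hF : Module.finrank k F ∣ Module.finrank k ((F ⊗[k] κ) ⧸ M) := by
    exact ⟨_, (Module.finrank_mul_finrank k F ((F ⊗[k] κ) ⧸ M)).symm⟩
  have hκ : Module.finrank k κ ∣ Module.finrank k ((F ⊗[k] κ) ⧸ M) := by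
    letI : Algebra κ ((F ⊗[k] κ) ⧸ M) := i₂.toRingHom.toAlgebra
    haveI : IsScalarTower k κ ((F ⊗[k] κ) ⧸ M) := IsScalarTower.of_algebraMap_eq' i₂.comp_algebraMap.symm
    exact ⟨_, (Module.finrank_mul_finrank k κ ((F ⊗[k] κ) ⧸ M)).symm⟩
  have hle : Module.finrank k (F ⊗[k] κ) ≤ Module.finrank k ((F ⊗[k] κ) ⧸ M) := by
    rw [Module.finrank_tensorProduct]
    exact Nat.le_of_dvd Module.finrank_pos (h.mul_dvd_of_dvd_of_dvd hF hκ)
  have hsurj : Function.Surjective q.toLinearMap := Ideal.Quotient.mk_surjective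
  have heq : Module.finrank k (F ⊗[k] κ) = Module.finrank k ((F ⊗[k] κ) ⧸ M) :=
    le_antisymm hle (q.toLinearMap.finrank_le_finrank_of_surjective hsurj)
  have hinj : Function.Injective q :=
    (LinearMap.injective_iff_surjective_of_finrank_eq_finrank heq).mpr hsurj
  exact MulEquiv.isField (Field.toIsField ((F ⊗[k] κ) ⧸ M)) (AlgEquiv.ofBijective q ⟨hinj, hsurj⟩).toMulEquiv

/-- A tensor invariant under a Galois group comes from the other factor. -/
theorem mem_range_of_invariant {F A : Type u} [Field F] [Algebra k F] [FiniteDimensional k F] [IsGalois k F]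
    [CommRing A] [Algebra k A] (x : F ⊗[k] A)
    (hx : ∀ σ : Gal(F/k), Algebra.TensorProduct.map σ.toAlgHom (AlgHom.id k A) x = x) :
    x ∈ Set.range (Algebra.TensorProduct.includeRight : A →ₐ[k] F ⊗[k] A) := by
  classical
  let b := Module.Basis.ofVectorSpace k A
  let E := TensorProduct.equivFinsuppOfBasisRight (M := F) b
  have hnat : ∀ (σ : Gal(F/k)) (y : F ⊗[k] A) (i), E (Algebra.TensorProduct.map σ.toAlgHom (AlgHom.id k A) y) i = σ (E y i) := by
    intro σ y i
    induction y using TensorProduct.induction_on with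
    | zero => simp
    | tmul c a => simp [E, map_smul]
    | add y z hy hz => simp [hy, hz]
  have hfix : ∀ i, E x i ∈ Set.range (algebraMap k F) := fun i =>
    (IsGalois.mem_range_algebraMap_iff_fixed _).mpr fun σ => by rw [← hnat, hx]
  choose c hc using hfix
  refine ⟨(E x).sum fun i _ => c i • b i, ?_⟩
  show (1 : F) ⊗ₜ[k] _ = x
  conv_rhs => rw [← E.symm_apply_apply x]
  rw [TensorProduct.equivFinsuppOfBasisRight_symm_apply, Finsupp.sum, TensorProduct.tmul_sum, Finsupp.sum]
  refine Finset.sum_congr rfl fun i _ => ?_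
  rw [← hc, TensorProduct.tmul_smul, TensorProduct.smul_tmul', Algebra.smul_def, mul_one]

variable {T : Over (Spec (CommRingCat.of k))} [GrpObj T] [IsAffine T.left]
  (hcomm : ∀ (Y : Over (Spec (CommRingCat.of k))) (a b : Y ⟶ T), a * b = b * a)

/-- Points of an affine group are determined after an injective map of rings. -/
theorem pt_ext {A B : Type u} [CommRing A] [CommRing B] [Algebra k A] [Algebra k B] (f : A →ₐ[k] B)
    (hf : Function.Injective f) {s t : sp k A ⟶ T} (h : spMap f ≫ s = spMap f ≫ t) : s = t := by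
  obtain ⟨H, _, _, ⟨e⟩⟩ := exists_hopf T
  let E : sp k H ≅ T := (Grp.forget _).mapIso e
  obtain ⟨ψ, hψ⟩ := exists_eq_spMap (s ≫ E.inv)
  obtain ⟨χ, hχ⟩ := exists_eq_spMap (t ≫ E.inv)
  have h1 : spMap f ≫ s ≫ E.inv = spMap f ≫ t ≫ E.inv := by rw [reassoc_of% h]
  rw [hψ, hχ, spMap_comp, spMap_comp] at h1
  have h2 : ψ = χ := AlgHom.ext fun z => hf (congrArg (fun g : H →ₐ[k] B => g z) (spMap_injective h1))
  rw [← cancel_mono E.inv, hψ, hχ, h2]

include hcomm in
/-- The norm: if a point becomes liftable over a Galois extension of degree `l`, then its `l`-th power lifts. -/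
theorem exists_lift_pow {A κ F : Type u} [CommRing A] [Algebra k A] [Field κ] [Algebra k κ] [Field F] [Algebra k F]
    [FiniteDimensional k F] [IsGalois k F] (ρ : A →ₐ[k] κ) (w : sp k κ ⟶ T) (s : sp k (F ⊗[k] A) ⟶ T)
    (hs : spMap (Algebra.TensorProduct.map (AlgHom.id k F) ρ) ≫ s =
      spMap (Algebra.TensorProduct.includeRight : κ →ₐ[k] F ⊗[k] κ) ≫ w) :
    ∃ s₀ : sp k A ⟶ T, spMap ρ ≫ s₀ = w ^ Module.finrank k F := by
  classical
  letI : CommMonoid (sp k (F ⊗[k] A) ⟶ T) :=
    { (inferInstance : Monoid (sp k (F ⊗[k] A) ⟶ T)) with mul_comm := hcomm _ }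
  letI : CommMonoid (sp k (F ⊗[k] κ) ⟶ T) :=
    { (inferInstance : Monoid (sp k (F ⊗[k] κ) ⟶ T)) with mul_comm := hcomm _ }
  haveI : Fintype Gal(F/k) := Fintype.ofFinite _
  let act (R : Type u) [CommRing R] [Algebra k R] (σ : Gal(F/k)) : sp k (F ⊗[k] R) ⟶ sp k (F ⊗[k] R) :=
    spMap (Algebra.TensorProduct.map σ.toAlgHom (AlgHom.id k R))
  let precA : ∀ σ : Gal(F/k), (sp k (F ⊗[k] A) ⟶ T) →* (sp k (F ⊗[k] A) ⟶ T) := fun σ =>
    { toFun := fun x => act A σ ≫ x, map_one' := MonObj.comp_one _, map_mul' := fun _ _ => MonObj.comp_mul _ _ _ }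
  let N : sp k (F ⊗[k] A) ⟶ T := ∏ σ : Gal(F/k), act A σ ≫ s
  have hN : ∀ τ : Gal(F/k), act A τ ≫ N = N := by
    intro τ
    rw [show act A τ ≫ N = precA τ N from rfl, map_prod]
    refine Fintype.prod_equiv (Equiv.mulLeft τ) _ _ fun σ => ?_
    show act A τ ≫ act A σ ≫ s = act A (τ * σ) ≫ s
    rw [← Category.assoc, spMap_comp]
    congr 2
    exact Algebra.TensorProduct.ext (AlgHom.ext fun c => by simp) (AlgHom.ext fun c => by simp)
  obtain ⟨H, _, _, ⟨e⟩⟩ := exists_hopf T
  let E : sp k H ≅ T := (Grp.forget _).mapIso e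
  obtain ⟨ψ, hψ⟩ := exists_eq_spMap (N ≫ E.inv)
  have hmem : ∀ z, ψ z ∈ (Algebra.TensorProduct.includeRight : A →ₐ[k] F ⊗[k] A).range := by
    intro z
    refine mem_range_of_invariant _ fun τ => ?_
    have h1 : act A τ ≫ N ≫ E.inv = N ≫ E.inv := by rw [← Category.assoc, hN]
    rw [hψ, spMap_comp] at h1
    exact congrArg (fun g : H →ₐ[k] F ⊗[k] A => g z) (spMap_injective h1)
  have hinj : Function.Injective (Algebra.TensorProduct.includeRight : A →ₐ[k] F ⊗[k] A) :=
    Algebra.TensorProduct.includeRight_injective (algebraMap k F).injective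
  let ψ₀ : H →ₐ[k] A := (AlgEquiv.ofInjective _ hinj).symm.toAlgHom.comp (ψ.codRestrict _ hmem)
  have hψ₀ : (Algebra.TensorProduct.includeRight : A →ₐ[k] F ⊗[k] A).comp ψ₀ = ψ :=
    AlgHom.ext fun z => congrArg Subtype.val ((AlgEquiv.ofInjective _ hinj).apply_symm_apply (ψ.codRestrict _ hmem z))
  refine ⟨spMap ψ₀ ≫ E.hom, pt_ext (Algebra.TensorProduct.includeRight : κ →ₐ[k] F ⊗[k] κ)
    (Algebra.TensorProduct.includeRight_injective (algebraMap k F).injective) ?_⟩
  let ρ' := Algebra.TensorProduct.map (AlgHom.id k F) ρ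
  have hN0 : spMap (Algebra.TensorProduct.includeRight : A →ₐ[k] F ⊗[k] A) ≫ spMap ψ₀ ≫ E.hom = N := by
    rw [← Category.assoc, spMap_comp, hψ₀, ← hψ, Category.assoc, E.inv_hom_id, Category.comp_id]
  have hsq : spMap (Algebra.TensorProduct.includeRight : κ →ₐ[k] F ⊗[k] κ) ≫ spMap ρ =
      spMap ρ' ≫ spMap (Algebra.TensorProduct.includeRight : A →ₐ[k] F ⊗[k] A) := by
    rw [spMap_comp, spMap_comp]
    congr 1

  rw [reassoc_of% hsq, hN0]
  let precρ : (sp k (F ⊗[k] A) ⟶ T) →* (sp k (F ⊗[k] κ) ⟶ T) :=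
    { toFun := fun x => spMap ρ' ≫ x, map_one' := MonObj.comp_one _, map_mul' := fun _ _ => MonObj.comp_mul _ _ _ }
  let preci : (sp k κ ⟶ T) →* (sp k (F ⊗[k] κ) ⟶ T) :=
    { toFun := fun x => spMap (Algebra.TensorProduct.includeRight : κ →ₐ[k] F ⊗[k] κ) ≫ x,
      map_one' := MonObj.comp_one _, map_mul' := fun _ _ => MonObj.comp_mul _ _ _ }
  rw [show spMap ρ' ≫ N = precρ N from rfl, map_prod]
  refine (Finset.prod_congr rfl (g := fun _ => preci w) fun σ _ => ?_).trans ?_
  · show spMap ρ' ≫ act A σ ≫ s = spMap _ ≫ w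
    rw [← Category.assoc, spMap_comp,
      show ρ'.comp (Algebra.TensorProduct.map σ.toAlgHom (AlgHom.id k A)) =
        (Algebra.TensorProduct.map σ.toAlgHom (AlgHom.id k κ)).comp ρ' from
        Algebra.TensorProduct.ext (AlgHom.ext fun c => by simp [ρ']) (AlgHom.ext fun c => by simp [ρ']),
      ← spMap_comp, Category.assoc, hs, ← Category.assoc, spMap_comp]
    congr 2
    exact AlgHom.ext fun c => by simp
  · rw [Finset.prod_const, Finset.card_univ, ← Nat.card_eq_fintype_card, IsGalois.card_aut_eq_finrank]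
    exact (map_pow preci w _).symm

end Groth.Agent.TorusLift28
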