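import Groth.Agent.GrpSchLib.AffineHopf
import Groth.Agent.AGF27.UnipNorm
import Mathlib.Algebra.MvPolynomial.Funext
import Mathlib.Algebra.MvPolynomial.SchwartzZippel

/-!
# Points of retract rational groups: lifting and decomposition as a product of two points of an open
-/

set_option linter.style.haveILetI false
set_option backward.isDefEq.respectTransparency false

universe u

open CategoryTheory CategoryTheory.Limits AlgebraicGeometry MonoidalCategory CartesianMonoidalCategory
open scoped MonObj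
open Groth.Agent.GrpSchLib Groth.Agent.GrpSchLib.AffineHopf

namespace Groth.Agent.TorusLift28

variable {k : Type u} [Field k] {T : Over (Spec (CommRingCat.of k))} {U : T.left.Opens} {n : ℕ}
  {Y : (Spec (CommRingCat.of (MvPolynomial (Fin n) k))).Opens}
  (a : (U : Scheme.{u}) ⟶ (Y : Scheme.{u})) (b : (Y : Scheme.{u}) ⟶ (U : Scheme.{u})) (hab : a ≫ b = 𝟙 _)
  (ha : a ≫ Y.ι ≫ Spec.map (CommRingCat.ofHom (algebraMap k (MvPolynomial (Fin n) k))) = U.ι ≫ T.hom)
  (hb : b ≫ U.ι ≫ T.hom = Y.ι ≫ Spec.map (CommRingCat.ofHom (algebraMap k (MvPolynomial (Fin n) k))))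

include hab ha hb in
/-- Points in the retract lift along surjections from local rings to fields. -/
theorem exists_lift_of_mem {A L : Type u} [CommRing A] [IsLocalRing A] [Algebra k A] [Field L] [Algebra k L]
    (ρ : A →ₐ[k] L) (hρ : Function.Surjective ρ) (w : sp k L ⟶ T) (hw : ∀ x, w.left x ∈ U) :
    ∃ s : sp k A ⟶ T, spMap ρ ≫ s = w := by
  let w₀ : Spec (CommRingCat.of L) ⟶ (U : Scheme.{u}) := IsOpenImmersion.lift U.ι w.left (by rintro _ ⟨x, rfl⟩; rw [Scheme.Opens.range_ι]; exact hw x)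
  have hw₀ : w₀ ≫ U.ι = w.left := IsOpenImmersion.lift_fac _ _ _
  obtain ⟨c, hc⟩ : ∃ c, Spec.map c = w₀ ≫ a ≫ Y.ι := ⟨_, Spec.map_preimage _⟩
  have hck : ∀ r, c (algebraMap k (MvPolynomial (Fin n) k) r) = algebraMap k L r := by
    have h : CommRingCat.ofHom (algebraMap k (MvPolynomial (Fin n) k)) ≫ c = CommRingCat.ofHom (algebraMap k L) := by
      apply Spec.map_injective
      rw [Spec.map_comp, hc, Category.assoc, Category.assoc, ha, ← Category.assoc, hw₀]
      exact Over.w w
    exact fun r => ConcreteCategory.congr_hom h r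
  choose g hg using fun i => hρ (c (MvPolynomial.X i))
  let c' : MvPolynomial (Fin n) k →ₐ[k] A := MvPolynomial.aeval g
  have hcc : CommRingCat.ofHom c'.toRingHom ≫ CommRingCat.ofHom ρ.toRingHom = c := by
    refine CommRingCat.hom_ext (MvPolynomial.ringHom_ext (fun r => ?_) fun i => ?_)
    · show ρ (c' (MvPolynomial.C r)) = c (MvPolynomial.C r)
      rw [MvPolynomial.aeval_C, AlgHom.commutes]
      exact (hck r).symm
    · show ρ (c' (MvPolynomial.X i)) = c (MvPolynomial.X i)
      rw [MvPolynomial.aeval_X, hg]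
  let y := Spec.map (CommRingCat.ofHom c'.toRingHom)
  haveI : IsLocalHom ρ.toRingHom := .of_surjective _ hρ
  have hy : Set.range y ⊆ Set.range Y.ι := by
    rw [Scheme.Opens.range_ι]
    rintro _ ⟨z, rfl⟩
    refine ((IsLocalRing.specializes_closedPoint (R := A) z).map y.continuous).mem_open Y.2 ?_
    have h1 : Spec.map (CommRingCat.ofHom ρ.toRingHom) (IsLocalRing.closedPoint L) = IsLocalRing.closedPoint A :=
      IsLocalRing.comap_closedPoint ρ.toRingHom
    rw [← h1, ← Scheme.Hom.comp_apply, ← Spec.map_comp, hcc, hc, ← Category.assoc, Scheme.Hom.comp_apply]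
    exact ((w₀ ≫ a) (IsLocalRing.closedPoint L)).2
  let y₀ := IsOpenImmersion.lift Y.ι y hy
  refine ⟨Over.homMk (y₀ ≫ b ≫ U.ι) ?_, Over.OverMorphism.ext ?_⟩
  · simp only [Category.assoc]
    rw [hb, IsOpenImmersion.lift_fac_assoc, ← Spec.map_comp, ← CommRingCat.ofHom_comp]
    exact congrArg (fun f => Spec.map (CommRingCat.ofHom f)) c'.comp_algebraMap
  · show Spec.map (CommRingCat.ofHom ρ.toRingHom) ≫ y₀ ≫ b ≫ U.ι = w.left
    have h : Spec.map (CommRingCat.ofHom ρ.toRingHom) ≫ y₀ = w₀ ≫ a := by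
      rw [← cancel_mono Y.ι, Category.assoc, Category.assoc, IsOpenImmersion.lift_fac, ← Spec.map_comp, hcc, hc]
    rw [reassoc_of% h, reassoc_of% hab, hw₀]

variable [GrpObj T] [ConnectedSpace T.left] (hU : (U : Set T.left).Nonempty)

include a b hab ha hb hU in
/-- There is a non-zero polynomial off whose zero set a point splits as a product of two points in the open. -/
theorem exists_polynomial {κ : Type u} [Field κ] [Algebra k κ] (w : sp k κ ⟶ T) :
    ∃ f : MvPolynomial (Fin n) κ, f ≠ 0 ∧ ∀ (L : Type u) [Field L] [Algebra k L] (j₀ : κ →ₐ[k] L) (c : Fin n → L),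
      MvPolynomial.eval₂ j₀.toRingHom c f ≠ 0 →
        ∃ w₁ w₂ : sp k L ⟶ T, (∀ x, w₁.left x ∈ U) ∧ (∀ x, w₂.left x ∈ U) ∧ w₁ * w₂ = spMap j₀ ≫ w := by
  let P := MvPolynomial (Fin n) κ
  let ν : MvPolynomial (Fin n) k →ₐ[k] P := MvPolynomial.mapAlgHom (Algebra.ofId k κ)
  let N := Spec.map (CommRingCat.ofHom ν.toRingHom)
  let Y' := N ⁻¹ᵁ Y
  let C' : κ →ₐ[k] P := IsScalarTower.toAlgHom k κ P
  have hN : N ≫ Spec.map (CommRingCat.ofHom (algebraMap k (MvPolynomial (Fin n) k))) = (sp k P).hom := by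
    rw [← Spec.map_comp, ← CommRingCat.ofHom_comp]
    exact congrArg (fun f => Spec.map (CommRingCat.ofHom f)) ν.comp_algebraMap
  let Z : Over (Spec (CommRingCat.of k)) := Over.mk (Y'.ι ≫ (sp k P).hom)
  let z₁ : Z ⟶ T := Over.homMk ((N ∣_ Y) ≫ b ≫ U.ι) (by
    simp only [Category.assoc]
    rw [hb, morphismRestrict_ι_assoc, hN]
    rfl)
  let e : Z ⟶ sp k κ := (Over.homMk Y'.ι rfl : Z ⟶ sp k P) ≫ spMap C'
  let z₂ : Z ⟶ T := z₁⁻¹ * (e ≫ w)
  let O : (Spec (CommRingCat.of P)).Opens := Y'.ι ''ᵁ (z₂.left ⁻¹ᵁ U)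
  -- the open is nonempty
  obtain ⟨q, hq⟩ : (O : Set (Spec (CommRingCat.of P))).Nonempty := by
    let σ := Spec.map (CommRingCat.ofHom (algebraMap k κ))
    haveI := AGF27.geometricallyIrreducible_grp T
    haveI : IrreducibleSpace ↥(pullback T.hom σ) :=
      GeometricallyIrreducible.irreducibleSpace_of_subsingleton (pullback.snd T.hom σ)
    haveI : Surjective σ := ⟨fun x => ⟨IsLocalRing.closedPoint κ, Subsingleton.elim (α := PrimeSpectrum k) _ x⟩⟩
    let X : Over (Spec (CommRingCat.of k)) := Over.mk (pullback.fst T.hom σ ≫ T.hom)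
    let t : X ⟶ T := Over.homMk (pullback.fst T.hom σ) rfl
    let e' : X ⟶ sp k κ := Over.homMk (pullback.snd T.hom σ) pullback.condition.symm
    let t' : X ⟶ T := t⁻¹ * (e' ≫ w)
    let t'' : X ⟶ T := (e' ≫ w) * t⁻¹
    have hjw : t''.left ≫ T.hom = pullback.snd T.hom σ ≫ σ := (Over.w t'').trans pullback.condition
    let j : X ⟶ X := Over.homMk (pullback.lift t''.left (pullback.snd T.hom σ) hjw)
      (show pullback.lift t''.left _ hjw ≫ pullback.fst T.hom σ ≫ T.hom = pullback.fst T.hom σ ≫ T.hom by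
        rw [pullback.lift_fst_assoc, hjw, pullback.condition])
    have hj : j ≫ t' = t := by
      have h1 : j ≫ t = t'' := Over.OverMorphism.ext (pullback.lift_fst _ _ _)
      have h2 : j ≫ e' = e' := Over.OverMorphism.ext (pullback.lift_snd _ _ _)
      simp only [t', MonObj.comp_mul, GrpObj.comp_inv, h1, reassoc_of% h2]
      simp [t'', mul_assoc]
    have hO₁ : ((t.left ⁻¹ᵁ U : X.left.Opens) : Set X.left).Nonempty := by
      obtain ⟨x, hx⟩ := hU
      obtain ⟨y, hy⟩ := (pullback.fst T.hom σ).surjective x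
      exact ⟨y, show pullback.fst T.hom σ y ∈ U from hy ▸ hx⟩
    have hO₂ : ((t'.left ⁻¹ᵁ U : X.left.Opens) : Set X.left).Nonempty := by
      obtain ⟨y, hy⟩ := hO₁
      refine ⟨j.left y, ?_⟩
      show t'.left (j.left y) ∈ U
      rw [← Scheme.Hom.comp_apply, ← Over.comp_left, hj]
      exact hy
    obtain ⟨z, hz₁, hz₂⟩ := nonempty_preirreducible_inter (X := ↥(pullback T.hom σ)) (t.left ⁻¹ᵁ U).2
      (t'.left ⁻¹ᵁ U).2 hO₁ hO₂
    let K := (pullback T.hom σ).residueField z
    let m := (pullback T.hom σ).fromSpecResidueField z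
    let φ := Spec.preimage (m ≫ pullback.snd T.hom σ)
    letI : Algebra κ K := φ.hom.toAlgebra
    letI : Algebra k K := (φ.hom.comp (algebraMap k κ)).toAlgebra
    haveI : IsScalarTower k κ K := IsScalarTower.of_algebraMap_eq' rfl
    have hmκ : m ≫ pullback.snd T.hom σ = Spec.map (CommRingCat.ofHom (algebraMap κ K)) := (Spec.map_preimage _).symm
    have hm : ∀ x, m x = z := fun x => Scheme.fromSpecResidueField_apply _ x
    let p : sp k K ⟶ X := Over.homMk m (by
      show m ≫ pullback.fst T.hom σ ≫ T.hom = Spec.map (CommRingCat.ofHom (algebraMap k K))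
      rw [pullback.condition, reassoc_of% hmκ, ← Spec.map_comp]
      rfl)
    let wz : Spec (CommRingCat.of K) ⟶ (U : Scheme.{u}) := IsOpenImmersion.lift U.ι (p ≫ t).left (by
      rintro _ ⟨x, rfl⟩
      rw [Scheme.Opens.range_ι]
      show t.left (m x) ∈ U
      rw [hm]; exact hz₁)
    have hwz : wz ≫ U.ι = (p ≫ t).left := IsOpenImmersion.lift_fac _ _ _
    obtain ⟨c, hc⟩ : ∃ c, Spec.map c = wz ≫ a ≫ Y.ι := ⟨_, Spec.map_preimage _⟩
    let cP : P →ₐ[κ] K := MvPolynomial.aeval fun i => c (MvPolynomial.X i)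
    have hck : CommRingCat.ofHom (algebraMap k (MvPolynomial (Fin n) k)) ≫ c = CommRingCat.ofHom (algebraMap k K) := by
      apply Spec.map_injective
      rw [Spec.map_comp, hc, Category.assoc, Category.assoc, ha, ← Category.assoc, hwz]
      exact Over.w (p ≫ t)
    have hcP : CommRingCat.ofHom ν.toRingHom ≫ CommRingCat.ofHom cP.toRingHom = c := by
      refine CommRingCat.hom_ext (MvPolynomial.ringHom_ext (fun r => ?_) fun i => ?_)
      · show cP (ν (MvPolynomial.C r)) = c (MvPolynomial.C r)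
        rw [show ν (MvPolynomial.C r) = MvPolynomial.C (algebraMap k κ r) from MvPolynomial.map_C _ r, MvPolynomial.aeval_C]
        exact ((ConcreteCategory.congr_hom hck r).trans (IsScalarTower.algebraMap_apply k κ K r)).symm
      · show cP (ν (MvPolynomial.X i)) = c (MvPolynomial.X i)
        rw [show ν (MvPolynomial.X i) = MvPolynomial.X i from MvPolynomial.map_X _ i, MvPolynomial.aeval_X]
    let y := Spec.map (CommRingCat.ofHom cP.toRingHom)
    have hy : Set.range y ⊆ Set.range Y'.ι := by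
      rw [Scheme.Opens.range_ι]
      rintro _ ⟨x, rfl⟩
      show N (y x) ∈ Y
      rw [← Scheme.Hom.comp_apply, ← Spec.map_comp, hcP, hc, ← Category.assoc, Scheme.Hom.comp_apply]
      exact ((wz ≫ a) x).2
    let v₀ := IsOpenImmersion.lift Y'.ι y hy
    have hv₀ : v₀ ≫ Y'.ι = y := IsOpenImmersion.lift_fac _ _ _
    let v : sp k K ⟶ Z := Over.homMk v₀ (by
      show v₀ ≫ Y'.ι ≫ (sp k P).hom = _
      rw [reassoc_of% hv₀]
      exact (Spec.map_comp _ _).symm.trans (congrArg Spec.map (CommRingCat.hom_ext (RingHom.ext fun r =>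
        ((cP.restrictScalars k).commutes r)))))
    have hv₁ : v ≫ z₁ = p ≫ t := by
      refine Over.OverMorphism.ext ?_
      show v₀ ≫ (N ∣_ Y) ≫ b ≫ U.ι = _
      have h : v₀ ≫ (N ∣_ Y) = wz ≫ a := by
        rw [← cancel_mono Y.ι, Category.assoc, Category.assoc, morphismRestrict_ι, reassoc_of% hv₀,
          ← Spec.map_comp, hcP, hc]
      rw [reassoc_of% h, reassoc_of% hab, hwz]
    have hve : v ≫ e = p ≫ e' := by
      refine Over.OverMorphism.ext ?_
      show v₀ ≫ Y'.ι ≫ Spec.map (CommRingCat.ofHom C'.toRingHom) = m ≫ pullback.snd T.hom σ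
      rw [reassoc_of% hv₀, hmκ, ← Spec.map_comp, ← CommRingCat.ofHom_comp]
      congr 2
      exact cP.comp_algebraMap
    have hv₂ : v ≫ z₂ = p ≫ t' := by
      simp only [z₂, t', MonObj.comp_mul, GrpObj.comp_inv, hv₁, reassoc_of% hve]
    refine ⟨Y'.ι (v₀ (IsLocalRing.closedPoint K)), _, ?_, rfl⟩
    show (v ≫ z₂).left (IsLocalRing.closedPoint K) ∈ U
    rw [hv₂]
    show t'.left (m _) ∈ U
    rw [hm]
    exact hz₂
  obtain ⟨_, ⟨f, rfl⟩, hqf, hfO⟩ := PrimeSpectrum.isTopologicalBasis_basic_opens.exists_subset_of_mem_open hq O.2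
  refine ⟨f, fun h0 => by subst h0; simp at hqf, fun L _ _ j₀ c hc => ?_⟩
  let cL : P →ₐ[k] L :=
    { MvPolynomial.eval₂Hom j₀.toRingHom c with
      commutes' := fun r => by
        show MvPolynomial.eval₂Hom j₀.toRingHom c (algebraMap k P r) = _
        rw [IsScalarTower.algebraMap_apply k κ P, MvPolynomial.algebraMap_eq, MvPolynomial.eval₂Hom_C]
        exact j₀.commutes r }
  let y := Spec.map (CommRingCat.ofHom cL.toRingHom)
  have hyO : ∀ x, y x ∈ O := fun x => hfO (fun hmem => by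
    have h0 : cL f ∈ x.asIdeal := hmem
    exact x.isPrime.ne_top (x.asIdeal.eq_top_of_isUnit_mem h0 (isUnit_iff_ne_zero.mpr hc)))
  let v₀ := IsOpenImmersion.lift Y'.ι y (by
    rintro _ ⟨x, rfl⟩
    obtain ⟨x', -, hx'⟩ := hyO x
    exact ⟨x', hx'⟩)
  have hv₀ : v₀ ≫ Y'.ι = y := IsOpenImmersion.lift_fac _ _ _
  let v : sp k L ⟶ Z := Over.homMk v₀ (by
    show v₀ ≫ Y'.ι ≫ (sp k P).hom = _
    rw [reassoc_of% hv₀]
    exact (Spec.map_comp _ _).symm.trans (congrArg Spec.map (CommRingCat.hom_ext (RingHom.ext fun r => cL.commutes r))))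
  refine ⟨v ≫ z₁, v ≫ z₂, fun x => ?_, fun x => ?_, ?_⟩
  · exact (b ((N ∣_ Y) (v₀ x))).2
  · obtain ⟨x', hx', hxx⟩ := hyO x
    have : x' = v₀ x := Y'.ι.isOpenEmbedding.injective (hxx.trans (by rw [← Scheme.Hom.comp_apply, hv₀]))
    show z₂.left (v₀ x) ∈ U
    rw [← this]
    exact hx'
  · have hve : v ≫ e = spMap j₀ := by
      refine Over.OverMorphism.ext ?_
      show v₀ ≫ Y'.ι ≫ Spec.map (CommRingCat.ofHom C'.toRingHom) = Spec.map (CommRingCat.ofHom j₀.toRingHom)
      rw [reassoc_of% hv₀, ← Spec.map_comp]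
      exact congrArg Spec.map (CommRingCat.hom_ext (RingHom.ext fun r => MvPolynomial.eval₂Hom_C _ _ r))
    rw [← MonObj.comp_mul, show z₁ * z₂ = e ≫ w from mul_inv_cancel_left _ _, reassoc_of% hve]

/-- A non-zero polynomial has a point outside its zero set in a large enough field. -/
theorem exists_eval₂_ne_zero {κ L : Type u} [Field κ] [Field L] (j₀ : κ →+* L) {f : MvPolynomial (Fin n) κ}
    (hf : f ≠ 0) (hL : f.totalDegree < Nat.card L ∨ Infinite L) : ∃ c : Fin n → L, MvPolynomial.eval₂ j₀ c f ≠ 0 := by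
  classical
  have hf' : MvPolynomial.map j₀ f ≠ 0 := fun h => hf (MvPolynomial.map_injective j₀ j₀.injective (by rw [h, map_zero]))
  by_contra hall
  simp only [not_exists, not_not] at hall
  have hev : ∀ c, MvPolynomial.eval c (MvPolynomial.map j₀ f) = 0 := fun c => by
    rw [MvPolynomial.eval_map]; exact hall c
  by_cases hinf : Infinite L
  · exact hf' (MvPolynomial.funext fun c => by rw [hev, map_zero])
  have hlt := hL.resolve_right hinf
  haveI : Finite L := not_infinite_iff_finite.mp hinf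
  haveI := Fintype.ofFinite L
  have h := MvPolynomial.schwartz_zippel_totalDegree hf' (Finset.univ : Finset L)
  rw [Finset.filter_true_of_mem (fun c _ => hev c), Fintype.card_piFinset] at h
  simp only [Finset.prod_const, Finset.card_univ, Fintype.card_fin, Nat.cast_pow] at h
  have hpos : (0 : ℚ≥0) < Fintype.card L := by exact_mod_cast Fintype.card_pos
  rw [div_self (pow_ne_zero _ hpos.ne'), le_div_iff₀ hpos, one_mul] at h
  have h2 : Fintype.card L ≤ f.totalDegree := by
    refine le_trans (by exact_mod_cast h) ?_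
    exact Finset.sup_mono (MvPolynomial.support_map_subset _ _)
  rw [Nat.card_eq_fintype_card] at hlt
  omega

end Groth.Agent.TorusLift28
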